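import Mathlib

/-!
# Noetherian local G-domains have dimension at most one (helper73)
-/

set_option autoImplicit false
universe u

open IsLocalRing

namespace Groth.Agent.Lib.Helper73

/-- A Noetherian local domain in which some nonzero element lies in every nonzero prime has
dimension at most one. -/
theorem ringKrullDim_le_one_of_forall_mem {D : Type*} [CommRing D] [IsDomain D]
    [IsNoetherianRing D] [IsLocalRing D] (g : D) (hg : g ≠ 0)
    (h : ∀ P : Ideal D, P.IsPrime → P ≠ ⊥ → g ∈ P) : ringKrullDim D ≤ 1 := by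
  rw [← IsLocalRing.maximalIdeal_height_eq_ringKrullDim]
  by_contra hcon
  have hm : (1 : ℕ∞) < (maximalIdeal D).height := by
    by_contra h'
    exact hcon (by exact_mod_cast not_lt.mp h')
  have hmne : maximalIdeal D ≠ ⊥ := by
    intro e
    rw [e, Ideal.height_bot] at hm
    exact absurd hm (by simp)
  have hgm : g ∈ maximalIdeal D := h _ inferInstance hmne
  -- the minimal primes over `g`
  have hfin := Ideal.finite_minimalPrimes_of_isNoetherianRing D (Ideal.span {g})
  have hS : ∀ Q ∈ (Ideal.span {g}).minimalPrimes, Q.height ≤ 1 := fun Q hQ =>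
    Ideal.height_le_one_of_isPrincipal_of_mem_minimalPrimes (Ideal.span {g}) Q hQ
  have hnle : ∀ Q ∈ (Ideal.span {g}).minimalPrimes, ¬ maximalIdeal D ≤ Q := by
    intro Q hQ hle
    have := Ideal.height_mono hle
    exact absurd (lt_of_lt_of_le hm this) (not_lt.mpr (hS Q hQ))
  have havoid : ¬ ((maximalIdeal D : Set D) ⊆ ⋃ Q ∈ (hfin.toFinset : Set (Ideal D)), (Q : Set D)) := by
    intro hsub
    have := (Ideal.subset_union_prime (R := D) (s := hfin.toFinset) (f := fun Q => Q) ⊥ ⊥
      (fun Q hQ _ _ => ((Set.Finite.mem_toFinset hfin).mp hQ).1.1)).mp hsub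
    obtain ⟨Q, hQ, hle⟩ := this
    exact hnle Q ((Set.Finite.mem_toFinset hfin).mp hQ) hle
  rw [Set.not_subset] at havoid
  obtain ⟨a, ham, hna⟩ := havoid
  have hna' : ∀ Q ∈ (Ideal.span {g}).minimalPrimes, a ∉ Q := by
    intro Q hQ haQ
    apply hna
    simp only [Set.mem_iUnion]
    exact ⟨Q, (Set.Finite.mem_toFinset hfin).mpr hQ, haQ⟩
  -- `a ≠ 0`
  obtain ⟨Q₀, hQ₀, -⟩ := Ideal.exists_minimalPrimes_le
    (show Ideal.span {g} ≤ maximalIdeal D from (Ideal.span_singleton_le_iff_mem _).mpr hgm)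
  have ha0 : a ≠ 0 := by
    rintro rfl
    exact hna' Q₀ hQ₀ (Ideal.zero_mem _)
  -- a minimal prime over `a`
  obtain ⟨Q, hQ, -⟩ := Ideal.exists_minimalPrimes_le
    (show Ideal.span {a} ≤ maximalIdeal D from (Ideal.span_singleton_le_iff_mem _).mpr ham)
  haveI hQp : Q.IsPrime := hQ.1.1
  have haQ : a ∈ Q := hQ.1.2 (Ideal.mem_span_singleton_self a)
  have hQh : Q.height ≤ 1 :=
    Ideal.height_le_one_of_isPrincipal_of_mem_minimalPrimes (Ideal.span {a}) Q hQ
  have hQne : Q ≠ ⊥ := by
    intro e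
    rw [e] at haQ
    exact ha0 ((Ideal.mem_bot).mp haQ)
  have hgQ : g ∈ Q := h Q hQp hQne
  obtain ⟨Q₁, hQ₁, hQ₁Q⟩ := Ideal.exists_minimalPrimes_le
    (show Ideal.span {g} ≤ Q from (Ideal.span_singleton_le_iff_mem _).mpr hgQ)
  haveI hQ₁p : Q₁.IsPrime := hQ₁.1.1
  have hgQ₁ : g ∈ Q₁ := hQ₁.1.2 (Ideal.mem_span_singleton_self g)
  have hQ₁ne : Q₁ ≠ ⊥ := by
    intro e
    rw [e] at hgQ₁
    exact hg ((Ideal.mem_bot).mp hgQ₁)
  rcases eq_or_lt_of_le hQ₁Q with e | hlt
  · exact hna' Q₁ hQ₁ (e ▸ haQ)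
  · have h1 := Ideal.height_strict_mono_of_isPrime_of_isPrime hlt
    have h2 : Q₁.height = 0 := by
      have : Q₁.height < 1 := lt_of_lt_of_le h1 hQh
      exact ENat.lt_one_iff_eq_zero.mp this
    exact hQ₁ne (Ideal.height_eq_zero_iff_eq_bot.mp h2)

/-- A domain over which some field extension is a finitely generated algebra has a nonzero
element contained in all nonzero primes (it is a G-domain). -/
theorem exists_ne_zero_forall_mem_of_finiteType_field {D L : Type u} [CommRing D] [IsDomain D]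
    [IsNoetherianRing D] [Field L] [Algebra D L] (hinj : Function.Injective (algebraMap D L))
    [Algebra.FiniteType D L] :
    ∃ g : D, g ≠ 0 ∧ ∀ P : Ideal D, P.IsPrime → P ≠ ⊥ → g ∈ P := by
  let K := FractionRing D
  letI : Algebra K L := (IsFractionRing.lift (K := K) hinj).toAlgebra
  haveI : IsScalarTower D K L := IsScalarTower.of_algebraMap_eq (fun x => by
    show algebraMap D L x = IsFractionRing.lift hinj (algebraMap D K x)
    rw [IsFractionRing.lift_algebraMap])
  haveI : Algebra.FiniteType K L := Algebra.FiniteType.of_restrictScalars_finiteType D K L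
  haveI : Module.Finite K L := finite_of_finite_type_of_isJacobsonRing K L
  -- Artin–Tate
  have hKfg : (⊤ : Subalgebra D K).FG :=
    fg_of_fg_of_fg D K L (Algebra.FiniteType.out) (Module.Finite.fg_top)
      (algebraMap K L).injective
  obtain ⟨s, hs⟩ := hKfg
  -- common denominator
  classical
  have hden : ∀ k : K, ∃ d : D, d ≠ 0 ∧ ∃ n : D, k * algebraMap D K d = algebraMap D K n := by
    intro k
    obtain ⟨n, d, hd, rfl⟩ := IsFractionRing.div_surjective (A := D) k
    refine ⟨d, nonZeroDivisors.ne_zero hd, n, ?_⟩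
    rw [div_mul_cancel₀]
    exact (map_ne_zero_iff _ (IsFractionRing.injective D K)).mpr (nonZeroDivisors.ne_zero hd)
  choose den hden0 num hnum using hden
  let g : D := ∏ k ∈ s, den k
  have hg0 : g ≠ 0 := Finset.prod_ne_zero_iff.mpr (fun k _ => hden0 k)
  refine ⟨g, hg0, ?_⟩
  intro P hP hPne
  by_contra hgP
  -- the subalgebra of elements with denominator a power of `g`
  let T : Subalgebra D K :=
    { carrier := {k : K | ∃ (m : ℕ) (n : D), k * algebraMap D K (g ^ m) = algebraMap D K n}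
      mul_mem' := by
        rintro x y ⟨m, n, h1⟩ ⟨m', n', h2⟩
        refine ⟨m + m', n * n', ?_⟩
        rw [pow_add, map_mul, map_mul, ← h1, ← h2]
        ring
      add_mem' := by
        rintro x y ⟨m, n, h1⟩ ⟨m', n', h2⟩
        refine ⟨m + m', n * g ^ m' + n' * g ^ m, ?_⟩
        rw [pow_add, map_mul, map_add, map_mul, map_mul, ← h1, ← h2]
        ring
      algebraMap_mem' := by
        intro r
        exact ⟨0, r, by rw [pow_zero, map_one, mul_one]⟩ }
  have hsT : (s : Set K) ⊆ T := by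
    intro k hk
    obtain ⟨c, hc⟩ := Finset.dvd_prod_of_mem den hk
    refine ⟨1, num k * c, ?_⟩
    rw [pow_one]
    show k * algebraMap D K g = _
    rw [show g = den k * c from hc, map_mul, map_mul, ← mul_assoc, hnum k]
  have hT : T = ⊤ := by
    rw [eq_top_iff, ← hs]
    exact Algebra.adjoin_le hsT
  -- pick a nonzero element of `P`
  obtain ⟨c, hcP, hc0⟩ : ∃ c ∈ P, c ≠ 0 := by
    by_contra hcon
    push Not at hcon
    exact hPne (eq_bot_iff.mpr fun x hx => (Ideal.mem_bot).mpr (hcon x hx))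
  have hcK : (algebraMap D K c)⁻¹ ∈ T := by rw [hT]; trivial
  obtain ⟨m, n, hmn⟩ := hcK
  have hcK0 : algebraMap D K c ≠ 0 :=
    (map_ne_zero_iff _ (IsFractionRing.injective D K)).mpr hc0
  have : algebraMap D K (g ^ m) = algebraMap D K (c * n) := by
    rw [map_mul, ← hmn, ← mul_assoc, mul_inv_cancel₀ hcK0, one_mul]
  have h2 : g ^ m = c * n := IsFractionRing.injective D K this
  have h3 : g ^ m ∈ P := h2 ▸ P.mul_mem_right n hcP
  exact hgP (hP.mem_of_pow_mem m h3)

end Groth.Agent.Lib.Helper73
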