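import Mathlib
import Groth.Agent.Lib.Helper73.LocalDim.GDomain
import Groth.Agent.Lib.Lead.QCohAff5

/-!
# The image of a closed point under a finite type morphism to a local scheme (helper73)
-/

set_option autoImplicit false
set_option linter.style.haveILetI false
universe u

open AlgebraicGeometry CategoryTheory IsLocalRing

namespace Groth.Agent.Lib.Helper73

/-- Ring level: a maximal ideal of a finite type algebra over a Noetherian local ring contracts
to a prime of coheight at most one. -/
theorem ringKrullDim_quotient_comap_le_one {A B : Type u} [CommRing A] [IsNoetherianRing A]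
    [IsLocalRing A] [CommRing B] [Algebra A B] [Algebra.FiniteType A B] (n : Ideal B)
    [hn : n.IsMaximal] : ringKrullDim (A ⧸ n.comap (algebraMap A B)) ≤ 1 := by
  letI : Field (B ⧸ n) := Ideal.Quotient.field n
  haveI : (n.comap (algebraMap A B)).IsPrime := Ideal.comap_isPrime _ _
  haveI : Algebra.FiniteType A (B ⧸ n) :=
    Algebra.FiniteType.of_surjective (Ideal.Quotient.mkₐ A n) (Ideal.Quotient.mkₐ_surjective A n)
  haveI : Algebra.FiniteType (A ⧸ n.comap (algebraMap A B)) (B ⧸ n) :=
    Algebra.FiniteType.of_restrictScalars_finiteType A _ _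
  haveI : IsLocalRing (A ⧸ n.comap (algebraMap A B)) :=
    .of_surjective' _ Ideal.Quotient.mk_surjective
  obtain ⟨g, hg0, hg⟩ := exists_ne_zero_forall_mem_of_finiteType_field
    (D := A ⧸ n.comap (algebraMap A B)) (L := B ⧸ n) Ideal.algebraMap_quotient_injective
  exact ringKrullDim_le_one_of_forall_mem g hg0 hg

/-- The image of a closed point under a morphism locally of finite type to the spectrum of a
Noetherian local ring has coheight at most one. -/
theorem ringKrullDim_quotient_le_one_of_isClosed {A : Type u} [CommRing A] [IsNoetherianRing A]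
    [IsLocalRing A] {X : Scheme.{u}} (f : X ⟶ Spec (CommRingCat.of A)) [LocallyOfFiniteType f]
    (z : X) (hz : IsClosed ({z} : Set X)) :
    ringKrullDim (A ⧸ (f.base z).asIdeal) ≤ 1 := by
  obtain ⟨U, hU, hzU, -⟩ :=
    exists_isAffineOpen_mem_and_subset (X := X) (x := z) (U := ⊤) trivial
  let h : Spec Γ(X, U) ⟶ Spec (CommRingCat.of A) := hU.fromSpec ≫ f
  let φ : CommRingCat.of A ⟶ Γ(X, U) := Spec.preimage h
  have hφ : Spec.map φ = h := Spec.map_preimage h
  haveI : LocallyOfFiniteType (Spec.map φ) := by rw [hφ]; infer_instance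
  have hft : φ.hom.FiniteType := (HasRingHomProperty.Spec_iff (P := @LocallyOfFiniteType)).mp
    inferInstance
  letI : Algebra A Γ(X, U) := φ.hom.toAlgebra
  haveI : Algebra.FiniteType A Γ(X, U) := hft
  let n : PrimeSpectrum Γ(X, U) := hU.primeIdealOf ⟨z, hzU⟩
  have hnz : hU.fromSpec n = z := hU.fromSpec_primeIdealOf ⟨z, hzU⟩
  have hncl : IsClosed ({n} : Set (PrimeSpectrum Γ(X, U))) := by
    have : ({n} : Set (PrimeSpectrum Γ(X, U))) = hU.fromSpec ⁻¹' {z} := by
      ext t
      simp only [Set.mem_singleton_iff, Set.mem_preimage]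
      constructor
      · rintro rfl; exact hnz
      · intro ht
        apply hU.fromSpec.isOpenEmbedding.injective
        rw [ht, hnz]
    rw [this]
    exact hz.preimage hU.fromSpec.continuous
  haveI hmax : n.asIdeal.IsMaximal := (PrimeSpectrum.isClosed_singleton_iff_isMaximal n).mp hncl
  have key := ringKrullDim_quotient_comap_le_one (A := A) (B := Γ(X, U)) n.asIdeal
  have hpt : (f.base z).asIdeal = n.asIdeal.comap (algebraMap A Γ(X, U)) := by
    have h1 : f.base z = (Spec.map φ).base n := by
      rw [hφ]
      show f.base z = f.base (hU.fromSpec.base n)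
      rw [hnz]
    rw [h1]
    rfl
  rw [hpt]
  exact key

end Groth.Agent.Lib.Helper73
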