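import Mathlib
import Groth.Agent.Lib.Helper73.LocalDim.ClosedPointBase
import Groth.Agent.Lib.Helper73.DimFormula.CycDim
import Groth.Agent.Lib.Helper93.DimFunFT
import Groth.Agent.Lib.Helper93.DeltaZCat
import Groth.Agent.Lib.Helper70.Catenary4

/-!
# Dimension of the closure of a point of a scheme of finite type over a universally catenary
local ring (helper73)
-/

set_option autoImplicit false
set_option linter.style.haveILetI false
universe u

open AlgebraicGeometry CategoryTheory IsLocalRing TopologicalSpace Topology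

namespace Groth.Agent.Lib.Helper73

section Order

variable {X : Scheme.{u}}

/-- Codimensions of specializations of `x` are bounded by the dimension of the closure of `x`. -/
theorem codim_le_topologicalKrullDim_closure (x z : X) :
    codim x z ≤ topologicalKrullDim ↥(closure ({x} : Set X)) := by
  rw [← topologicalKrullDim_generizations_eq_codim x z]
  have hsub : {t : X | t ∈ closure ({x} : Set X) ∧ t ⤳ z} ⊆ closure ({x} : Set X) :=
    fun t ht => ht.1
  exact (Topology.IsEmbedding.inclusion hsub).isInducing.topologicalKrullDim_le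

/-- The dimension of the closure of `x` is attained as a codimension. -/
theorem exists_le_codim (x : X) (d : ℕ)
    (hd : topologicalKrullDim ↥(closure ({x} : Set X)) = d) :
    ∃ z : X, x ⤳ z ∧ (d : WithBot ℕ∞) ≤ codim x z := by
  haveI : QuasiSober ↥(closure ({x} : Set X)) :=
    isClosed_closure.isClosedEmbedding_subtypeVal.quasiSober
  rw [topologicalKrullDim_subtype_eq_krullDim] at hd
  change Order.krullDim ↥(closure ({x} : Set X)) = d at hd
  obtain ⟨p, hp⟩ := Order.le_krullDim_iff.mp hd.ge
  refine ⟨p.head.1, specializes_iff_mem_closure.mpr p.head.2, ?_⟩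
  unfold codim
  let p' : LTSeries (Set.Icc p.head.1 x) :=
    LTSeries.mk p.length (fun i => ⟨(p i).1, LTSeries.head_le p i,
      Scheme.le_iff_specializes.mpr (specializes_iff_mem_closure.mpr (p i).2)⟩)
      (fun i j hij => p.strictMono hij)
  have := Order.LTSeries.length_le_krullDim p'
  rw [← hp]
  exact this

end Order

section Main

variable (A : Type u) [CommRing A] [IsNoetherianRing A] [IsLocalRing A]
  (hA : CAlg.IsUniversallyCatenary A) {X : Scheme.{u}} (f : X ⟶ Spec (CommRingCat.of A))
  [LocallyOfFiniteType f]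

include hA in
theorem isUniversallyCatenary_stalk_spec (s : ↥(Spec (CommRingCat.of A))) :
    CAlg.IsUniversallyCatenary ((Spec (CommRingCat.of A)).presheaf.stalk s) := by
  let s₀ : PrimeSpectrum A := s
  exact Groth.Agent.Lib.Helper70.isUniversallyCatenary_localization A hA s₀.asIdeal.primeCompl
    ((Spec.structureSheaf A).presheaf.stalk s₀)

/-- The induced dimension function `δ(x) = dim A/p_{f x} + trdeg κ(x)/κ(f x)`. -/
noncomputable def deltaLocal (x : X) : ℤ :=
  Groth.Agent.Lib.Helper93.DeltaZ.cohtInt A (f.base x) + (resTrdegNat f x : ℤ)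

include hA in
theorem isDimFun_deltaLocal : Cyc.IsDimFun X (deltaLocal A f) := by
  have hcat : CAlg.IsCatenary A := hA.2 A (inferInstance : Algebra.FiniteType A A)
  have h1 := Groth.Agent.Lib.Helper93.DeltaZ.dimFunLike_of_deltaCompat f
    (isUniversallyCatenary_stalk_spec A hA) (Groth.Agent.Lib.Helper93.DeltaZ.cohtInt A)
    (Groth.Agent.Lib.Helper93.DeltaZ.cohtInt_dimFunLike hcat) (deltaLocal A f)
    (fun x => ⟨resTrdegNat f x, resTrdeg_eq_resTrdegNat f x, rfl⟩)
  exact h1

theorem cohtInt_eq_of_ringKrullDim (y : PrimeSpectrum A) (a : ℕ)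
    (ha : ringKrullDim (A ⧸ y.asIdeal) = a) :
    Groth.Agent.Lib.Helper93.DeltaZ.cohtInt A y = a := by
  rw [Groth.Agent.Lib.Helper93.DeltaZ.ringKrullDim_quotient_eq_coheight] at ha
  have : Order.coheight y = (a : ℕ∞) := by exact_mod_cast ha
  unfold Groth.Agent.Lib.Helper93.DeltaZ.cohtInt
  rw [this, ENat.toNat_natCast]

theorem cohtInt_nonneg (y : PrimeSpectrum A) :
    0 ≤ Groth.Agent.Lib.Helper93.DeltaZ.cohtInt A y := by
  unfold Groth.Agent.Lib.Helper93.DeltaZ.cohtInt
  exact Int.natCast_nonneg _

end Main

end Groth.Agent.Lib.Helper73
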