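import Mathlib
import Groth.Agent.Lib.Helper77.FlatDepth2
import Groth.Agent.Lib.Helper93.DeltaZCat

/-!
# Coheights of primes under a faithfully flat local homomorphism with trivial closed fibre
(helper73)

Let `A → A'` be a local homomorphism of Noetherian local rings such that the only prime of `A'`
over `m_A` is `m_{A'}`.

* `ringKrullDim_quotient_le_of_fibre_closedPoint`: `dim A'/q' ≤ dim A/(q' ∩ A)`.
* `exists_prime_comap_eq_ringKrullDim_quotient_eq` (faithfully flat case): every prime `p` of `A`
  is the contraction of a prime `q'` with `dim A'/q' = dim A/p`.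
-/

set_option autoImplicit false
set_option linter.style.haveILetI false
universe u

open IsLocalRing

namespace Groth.Agent.Lib.Helper73

section

variable (A A' : Type u) [CommRing A] [CommRing A'] [IsLocalRing A] [IsLocalRing A']
  [IsNoetherianRing A] [IsNoetherianRing A'] [Algebra A A']

/-- If some prime lies over the maximal ideal, and the only such prime is the maximal ideal,
the structure map is local. -/
theorem isLocalHom_of_fibre_closedPoint [Module.FaithfullyFlat A A']
    (hfib : ∀ q : Ideal A', ∀ _ : q.IsPrime, q.comap (algebraMap A A') = maximalIdeal A →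
      q = maximalIdeal A') : IsLocalHom (algebraMap A A') := by
  obtain ⟨Q, hQ⟩ := PrimeSpectrum.comap_surjective_of_faithfullyFlat (A := A) (B := A')
    (closedPoint A)
  have h1 : Q.asIdeal.comap (algebraMap A A') = maximalIdeal A := by
    have := congrArg PrimeSpectrum.asIdeal hQ
    exact this
  have h2 := hfib Q.asIdeal Q.2 h1
  rw [h2] at h1
  exact ((IsLocalRing.local_hom_TFAE (algebraMap A A')).out 0 4).mpr h1

variable [IsLocalHom (algebraMap A A')]

variable {A A'} in
/-- `dim A'/q' ≤ dim A/(q' ∩ A)` when the closed fibre is a point. -/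
theorem ringKrullDim_quotient_le_of_fibre_closedPoint
    (hfib : ∀ q : Ideal A', ∀ _ : q.IsPrime, q.comap (algebraMap A A') = maximalIdeal A →
      q = maximalIdeal A') (q' : Ideal A') [hq' : q'.IsPrime] :
    ringKrullDim (A' ⧸ q') ≤ ringKrullDim (A ⧸ q'.comap (algebraMap A A')) := by
  set p : Ideal A := q'.under A with hp
  haveI : p.IsPrime := Ideal.comap_isPrime _ _
  haveI : IsLocalRing (A ⧸ p) := .of_surjective' _ Ideal.Quotient.mk_surjective
  haveI : IsLocalRing (A' ⧸ q') := .of_surjective' _ Ideal.Quotient.mk_surjective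
  have hmap : ∀ a : A, algebraMap (A ⧸ p) (A' ⧸ q') (Ideal.Quotient.mk p a) =
      Ideal.Quotient.mk q' (algebraMap A A' a) := fun a => rfl
  haveI hloc : IsLocalHom (algebraMap (A ⧸ p) (A' ⧸ q')) := by
    constructor
    intro x hx
    obtain ⟨a, rfl⟩ := Ideal.Quotient.mk_surjective x
    rw [hmap] at hx
    have h1 : IsUnit (algebraMap A A' a) := by
      by_contra hnu
      have h2 : algebraMap A A' a ∈ maximalIdeal A' := hnu
      have h3 : Ideal.Quotient.mk q' (algebraMap A A' a) ∈ maximalIdeal (A' ⧸ q') := by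
        rw [mem_maximalIdeal, mem_nonunits_iff]
        intro hu
        haveI : IsLocalHom (Ideal.Quotient.mk q') :=
          Function.Surjective.isLocalHom _ Ideal.Quotient.mk_surjective
        exact hnu (isUnit_of_map_unit (Ideal.Quotient.mk q') _ hu)
      exact h3 hx
    exact (isUnit_of_map_unit (algebraMap A A') a h1).map _
  have hle := Groth.Agent.Lib.Helper77.FlatDepth.dim_le_add (A ⧸ p) (A' ⧸ q')
  -- the fibre ring is zero-dimensional
  set J : Ideal (A' ⧸ q') := (maximalIdeal (A ⧸ p)).map (algebraMap (A ⧸ p) (A' ⧸ q')) with hJ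
  have hdim0 : ringKrullDim ((A' ⧸ q') ⧸ J) ≤ 0 := by
    suffices h : Ring.KrullDimLE 0 ((A' ⧸ q') ⧸ J) by
      have := Ring.krullDimLE_iff.mp h
      simpa using this
    rw [Ring.krullDimLE_zero_iff]
    intro P hP
    let π : A' →+* (A' ⧸ q') ⧸ J := (Ideal.Quotient.mk J).comp (Ideal.Quotient.mk q')
    have hπ : Function.Surjective π :=
      Ideal.Quotient.mk_surjective.comp Ideal.Quotient.mk_surjective
    set Q : Ideal A' := P.comap π with hQ
    haveI : Q.IsPrime := Ideal.comap_isPrime _ _
    have h1 : maximalIdeal A ≤ Q.comap (algebraMap A A') := by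
      intro a ha
      rw [Ideal.mem_comap, hQ, Ideal.mem_comap]
      have h2 : Ideal.Quotient.mk p a ∈ maximalIdeal (A ⧸ p) := by
        rw [mem_maximalIdeal, mem_nonunits_iff]
        intro hu
        haveI : IsLocalHom (Ideal.Quotient.mk p) :=
          Function.Surjective.isLocalHom _ Ideal.Quotient.mk_surjective
        exact ha (isUnit_of_map_unit (Ideal.Quotient.mk p) _ hu)
      have h3 : algebraMap (A ⧸ p) (A' ⧸ q') (Ideal.Quotient.mk p a) ∈ J :=
        Ideal.mem_map_of_mem _ h2
      have h4 : π (algebraMap A A' a) = 0 := by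
        change Ideal.Quotient.mk J (Ideal.Quotient.mk q' (algebraMap A A' a)) = 0
        rw [← hmap, Ideal.Quotient.eq_zero_iff_mem]
        exact h3
      rw [h4]
      exact P.zero_mem
    have h2 : Q.comap (algebraMap A A') = maximalIdeal A :=
      ((maximalIdeal.isMaximal A).eq_of_le (Ideal.comap_isPrime _ _).ne_top h1).symm
    have h3 : Q = maximalIdeal A' := hfib Q inferInstance h2
    have hQmax : Q.IsMaximal := h3 ▸ maximalIdeal.isMaximal A'
    have h4 : P = Q.map π := by
      rw [hQ, Ideal.map_comap_of_surjective π hπ]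
    rw [h4]
    refine Ideal.IsMaximal.map_of_surjective_of_ker_le hπ ?_
    intro a ha
    rw [hQ, Ideal.mem_comap, RingHom.mem_ker.mp ha]
    exact P.zero_mem
  calc ringKrullDim (A' ⧸ q') ≤ ringKrullDim (A ⧸ p) + ringKrullDim ((A' ⧸ q') ⧸ J) := hle
    _ ≤ ringKrullDim (A ⧸ p) + 0 := by gcongr
    _ = ringKrullDim (A ⧸ p) := add_zero _

variable {A A'} in
/-- Faithfully flat case: every prime `p` of `A` is the contraction of a prime `q'` with
`dim A'/q' = dim A/p`. -/
theorem exists_prime_comap_eq_ringKrullDim_quotient_eq [Module.FaithfullyFlat A A']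
    (hfib : ∀ q : Ideal A', ∀ _ : q.IsPrime, q.comap (algebraMap A A') = maximalIdeal A →
      q = maximalIdeal A') (p : PrimeSpectrum A) :
    ∃ q' : PrimeSpectrum A', PrimeSpectrum.comap (algebraMap A A') q' = p ∧
      ringKrullDim (A' ⧸ q'.asIdeal) = ringKrullDim (A ⧸ p.asIdeal) := by
  have hfin : Order.coheight p ≠ ⊤ := by
    intro htop
    have h1 : (Order.coheight p : WithBot ℕ∞) ≤ Order.krullDim (PrimeSpectrum A) :=
      Order.coheight_le_krullDim p
    have h2 : ringKrullDim A < ⊤ := ringKrullDim_lt_top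
    rw [htop] at h1
    exact absurd (lt_of_le_of_lt h1 h2) (lt_irrefl _)
  obtain ⟨n, hn⟩ := ENat.ne_top_iff_exists.mp hfin
  obtain ⟨l, hl1, hl2⟩ := Order.exists_series_of_coheight_eq_coe p hn.symm
  obtain ⟨P, hP⟩ := PrimeSpectrum.comap_surjective_of_faithfullyFlat (A := A) (B := A') l.last
  haveI : P.asIdeal.LiesOver l.last.asIdeal := ⟨by
    have := congrArg PrimeSpectrum.asIdeal hP
    exact this.symm⟩
  obtain ⟨L, hL1, hL2, hL3⟩ := Ideal.exists_ltSeries_of_hasGoingDown l P.asIdeal
  have hhead : PrimeSpectrum.comap (algebraMap A A') L.head = p := by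
    rw [← hl1, ← L.toList_getElem_zero_eq_head, ← l.toList_getElem_zero_eq_head]
    rw [List.getElem_map_rev (PrimeSpectrum.comap (algebraMap A A')), List.getElem_of_eq hL3 _]
  refine ⟨L.head, hhead, le_antisymm ?_ ?_⟩
  · have := ringKrullDim_quotient_le_of_fibre_closedPoint hfib L.head.asIdeal
    have h2 : L.head.asIdeal.comap (algebraMap A A') = p.asIdeal := by
      have := congrArg PrimeSpectrum.asIdeal hhead
      exact this
    rw [h2] at this
    exact this
  · rw [Groth.Agent.Lib.Helper93.DeltaZ.ringKrullDim_quotient_eq_coheight,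
      Groth.Agent.Lib.Helper93.DeltaZ.ringKrullDim_quotient_eq_coheight, ← hn]
    have h1 : (L.length : ℕ∞) ≤ Order.coheight L.head := Order.length_le_coheight_head
    rw [hL1, hl2] at h1
    exact_mod_cast h1

end

end Groth.Agent.Lib.Helper73
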