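import Mathlib
import Groth.Agent.Lib.Helper73.LocalDim.FFLocalDim
import Groth.Agent.Lib.Helper73.DimFormula.RelMax

set_option autoImplicit false
universe u
open CategoryTheory CategoryTheory.Limits AlgebraicGeometry Opposite

namespace Groth.Agent.Lib.Helper73

/-- Behaviour of `δ = trdeg + coheight` under a faithfully flat local base change with trivial
closed fibre (EGA IV 5.x / SGA 2 XIV). -/
theorem delta_ffLocal_baseChange (A A' : Type u) [CommRing A] [CommRing A'] [IsLocalRing A] [IsLocalRing A'] [IsNoetherianRing A] [IsNoetherianRing A'] [Algebra A A'] [Module.FaithfullyFlat A A'] (hfib : ∀ q : Ideal A', ∀ _ : q.IsPrime, q.comap (algebraMap A A') = IsLocalRing.maximalIdeal A → q = IsLocalRing.maximalIdeal A') (X : Scheme.{u}) (f : X ⟶ (Spec (CommRingCat.of A))) [LocallyOfFiniteType f] :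
    (∀ x' : ↥(pullback f (Spec.map (CommRingCat.ofHom (algebraMap A A')))),
      resTrdeg (pullback.snd f (Spec.map (CommRingCat.ofHom (algebraMap A A')))) x' ≤
        resTrdeg f ((pullback.fst f (Spec.map (CommRingCat.ofHom (algebraMap A A')))).base x') ∧
      ringKrullDim (A' ⧸ ((pullback.snd f (Spec.map (CommRingCat.ofHom (algebraMap A A')))).base x').asIdeal) ≤ ringKrullDim (A ⧸ (f.base ((pullback.fst f (Spec.map (CommRingCat.ofHom (algebraMap A A')))).base x')).asIdeal)) ∧
    (∀ x : X, ∃ x' : ↥(pullback f (Spec.map (CommRingCat.ofHom (algebraMap A A')))),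
      (pullback.fst f (Spec.map (CommRingCat.ofHom (algebraMap A A')))).base x' = x ∧
      resTrdeg (pullback.snd f (Spec.map (CommRingCat.ofHom (algebraMap A A')))) x' =
        resTrdeg f ((pullback.fst f (Spec.map (CommRingCat.ofHom (algebraMap A A')))).base x') ∧
      ringKrullDim (A' ⧸ ((pullback.snd f (Spec.map (CommRingCat.ofHom (algebraMap A A')))).base x').asIdeal) = ringKrullDim (A ⧸ (f.base ((pullback.fst f (Spec.map (CommRingCat.ofHom (algebraMap A A')))).base x')).asIdeal)) := by
  set g := Spec.map (CommRingCat.ofHom (algebraMap A A')) with hg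
  set p := pullback.fst f g with hp
  set f' := pullback.snd f g with hf'
  have hsq : IsPullback p f' f g := IsPullback.of_hasPullback f g
  haveI : LocallyOfFiniteType f' := by rw [hf']; infer_instance
  haveI := isLocalHom_of_fibre_closedPoint A A' hfib
  have hgpt : ∀ s' : ↥(Spec (CommRingCat.of A')),
      (g.base s').asIdeal = (s'.asIdeal).comap (algebraMap A A') := fun s' => rfl
  have hcomm : ∀ x' : ↥(pullback f g), f.base (p.base x') = g.base (f'.base x') := by
    intro x'
    have := congrArg (fun φ => φ.base x') hsq.w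
    simpa only [Scheme.Hom.comp_base, TopCat.comp_app] using this
  constructor
  · intro x'
    constructor
    · have h := resTrdegNat_le_of_isPullback f g p f' hsq x'
      rw [resTrdeg_eq_resTrdegNat f' x', resTrdeg_eq_resTrdegNat f (p.base x')]
      exact_mod_cast h
    · let s' : PrimeSpectrum A' := f'.base x'
      haveI := s'.isPrime
      have h := ringKrullDim_quotient_le_of_fibre_closedPoint hfib s'.asIdeal
      rw [hcomm x', hgpt]
      exact h
  · intro x
    obtain ⟨q', hq'1, hq'2⟩ := exists_prime_comap_eq_ringKrullDim_quotient_eq hfib (f.base x)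
    have hfx : f.base x = g.base q' := hq'1.symm
    obtain ⟨ζ, hζ1, hζ2⟩ := Scheme.Pullback.exists_preimage_pullback (f := f) (g := g) x
      (show ↥(Spec (CommRingCat.of A')) from q') hfx
    obtain ⟨ζ', -, h1, h2, hmax⟩ := exists_relMaximal_specializes f g p f' hsq ζ
    have h3 := resTrdegNat_eq_of_isPullback_of_relMaximal f g p f' hsq ζ' hmax
    have hpζ' : p.base ζ' = x := h2.trans hζ1
    have hfζ' : f'.base ζ' = q' := h1.trans hζ2
    refine ⟨ζ', hpζ', ?_, ?_⟩
    · rw [resTrdeg_eq_resTrdegNat f' ζ', resTrdeg_eq_resTrdegNat f (p.base ζ')]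
      exact_mod_cast h3
    · rw [hpζ', hfζ']
      exact hq'2

end Groth.Agent.Lib.Helper73
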